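import Cfsg.Agent.H466.K547.Wr
import Cfsg.Agent.H466.K547.Bm
import Cfsg.Agent.H466.K547.Gen
import Cfsg.Agent.H466.CA.BridgeUni
import Cfsg.Agent.H751.Big.Val2

/-!
# The Sylow 2-subgroups of `PSU_n(q)`, `q` odd, `n ≥ 4`, need three generators (S4547)
-/

set_option autoImplicit false

namespace Cfsg.Agent.H466.K547

/-- the unitary group of degree two -/
abbrev U2 (F : Type) [Field F] [StarRing F] := unitary (Matrix (Fin 2) (Fin 2) F)

open Equiv Subgroup Matrix Cfsg.Agent.ClassicalGeometry Cfsg.Agent.H821.K547 Cfsg.Agent.H466.CA.BridgeUni Cfsg.Agent.LieClassical.HermBasic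
  Cfsg.Agent.LieClassical.HermSiegel Cfsg.Agent.ClassicalGeometry.PSUAutCount

section

variable {F : Type} [Field F] [StarRing F]

/-- the determinant of a unitary matrix -/
def detU (κ : Type) [Fintype κ] [DecidableEq κ] : unitary (Matrix κ κ F) →* unitary F where
  toFun u := ⟨(u : Matrix κ κ F).det, Unitary.mem_iff.2 (by
    have h1 : star (u : Matrix κ κ F).det = (star (u : Matrix κ κ F)).det := (Matrix.det_conjTranspose _).symm
    have h2 := Unitary.mem_iff.1 u.2
    rw [h1, ← Matrix.det_mul, ← Matrix.det_mul, h2.1, h2.2, Matrix.det_one]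
    exact ⟨rfl, rfl⟩)⟩
  map_one' := Subtype.ext Matrix.det_one
  map_mul' u v := Subtype.ext (Matrix.det_mul _ _)

theorem coe_detU {κ : Type} [Fintype κ] [DecidableEq κ] (u : unitary (Matrix κ κ F)) :
    (detU κ u : F) = (u : Matrix κ κ F).det := rfl

theorem detU_surjective : Function.Surjective (detU (F := F) (Fin 2)) := by
  intro z
  have hz := Unitary.mem_iff.1 z.2
  refine ⟨⟨!![(z : F), 0; 0, 1], Unitary.mem_iff.2 ?_⟩, ?_⟩
  · have h1 : star !![(z : F), 0; 0, 1] = !![star (z : F), 0; 0, 1] := by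
      ext i j
      fin_cases i <;> fin_cases j <;> simp [Matrix.star_apply]
    rw [h1]
    constructor
    · ext i j
      fin_cases i <;> fin_cases j <;> simp [Matrix.mul_apply, Fin.sum_univ_two, hz.1]
    · ext i j
      fin_cases i <;> fin_cases j <;> simp [Matrix.mul_apply, Fin.sum_univ_two, hz.2]
  · apply Subtype.ext
    rw [coe_detU]
    simp [Matrix.det_fin_two]

/-- the Sylow 2-subgroups of `GU_2` are not abelian -/
theorem exists_noncomm [Finite F] (h2 : (2 : F) ≠ 0) (D : Sylow 2 (U2 F)) :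
    ∃ a b : (D : Subgroup (U2 F)), a * b ≠ b * a := by
  have hp : Fact (Nat.Prime 2) := ⟨Nat.prime_two⟩
  have hfin : Finite (unitary (Matrix (Fin 2) (Fin 2) F)) := Subtype.finite
  have hw : star !![(0 : F), 1; 1, 0] = !![0, 1; 1, 0] := by
    ext i j
    fin_cases i <;> fin_cases j <;> simp [Matrix.star_apply]
  have hs : star !![(1 : F), 0; 0, -1] = !![1, 0; 0, -1] := by
    ext i j
    fin_cases i <;> fin_cases j <;> simp [Matrix.star_apply]
  have hww : !![(0 : F), 1; 1, 0] * !![0, 1; 1, 0] = 1 := by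
    ext i j
    fin_cases i <;> fin_cases j <;> simp [Matrix.mul_apply, Fin.sum_univ_two]
  have hss : !![(1 : F), 0; 0, -1] * !![1, 0; 0, -1] = 1 := by
    ext i j
    fin_cases i <;> fin_cases j <;> simp [Matrix.mul_apply, Fin.sum_univ_two]
  let w : unitary (Matrix (Fin 2) (Fin 2) F) := ⟨!![0, 1; 1, 0], Unitary.mem_iff.2 (by rw [hw]; exact ⟨hww, hww⟩)⟩
  let s : unitary (Matrix (Fin 2) (Fin 2) F) := ⟨!![1, 0; 0, -1], Unitary.mem_iff.2 (by rw [hs]; exact ⟨hss, hss⟩)⟩
  have h1 : w * w = 1 := Subtype.ext hww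
  have h3 : s * s = 1 := Subtype.ext hss
  have h4 : (w * s) ^ 4 = 1 := by
    apply Subtype.ext
    change (!![(0 : F), 1; 1, 0] * !![1, 0; 0, -1]) ^ 4 = 1
    have h5 : !![(0 : F), 1; 1, 0] * !![1, 0; 0, -1] = !![0, -1; 1, 0] := by
      ext i j
      fin_cases i <;> fin_cases j <;> simp [Matrix.mul_apply, Fin.sum_univ_two]
    have h6 : !![(0 : F), -1; 1, 0] * !![0, -1; 1, 0] = -1 := by
      ext i j
      fin_cases i <;> fin_cases j <;> simp [Matrix.mul_apply, Fin.sum_univ_two]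
    rw [h5, show (4 : ℕ) = 2 * 2 from rfl, pow_mul, pow_two !![(0 : F), -1; 1, 0], h6, neg_one_sq]
  have hwi : w⁻¹ = w := inv_eq_of_mul_eq_one_left h1
  have hsi : s⁻¹ = s := inv_eq_of_mul_eq_one_left h3
  have h5 : w * (w * s) * w⁻¹ = (w * s)⁻¹ := by
    rw [← mul_assoc, h1, one_mul, _root_.mul_inv_rev, hsi]
  have h6 : ∀ k : ℤ, w * (w * s) ^ k * w⁻¹ = (w * s) ^ (-k) := by
    intro k
    have := congrArg (fun x => x ^ k) h5
    simp only [conj_zpow] at this
    rw [this, _root_.inv_zpow, _root_.zpow_neg]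
  have hP1 : IsPGroup 2 (zpowers (w * s)) := by
    rintro ⟨g, hg⟩
    obtain ⟨k, rfl⟩ := mem_zpowers_iff.1 hg
    refine ⟨2, Subtype.ext ?_⟩
    change ((w * s) ^ k) ^ 2 ^ 2 = 1
    rw [← zpow_natCast, ← _root_.zpow_mul, mul_comm, _root_.zpow_mul, zpow_natCast, show 2 ^ 2 = 4 from rfl, h4,
      _root_.one_zpow]
  have hP2 : IsPGroup 2 (zpowers w) := by
    rintro ⟨g, hg⟩
    obtain ⟨k, rfl⟩ := mem_zpowers_iff.1 hg
    refine ⟨1, Subtype.ext ?_⟩
    change (w ^ k) ^ 2 ^ 1 = 1
    rw [← zpow_natCast, ← _root_.zpow_mul, mul_comm, _root_.zpow_mul, zpow_natCast, pow_one, pow_two, h1,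
      _root_.one_zpow]
  have hN : zpowers w ≤ normalizer (zpowers (w * s) : Set (unitary (Matrix (Fin 2) (Fin 2) F))) := by
    rw [zpowers_le, mem_normalizer_iff]
    intro h
    constructor
    · intro hh
      obtain ⟨k, rfl⟩ := mem_zpowers_iff.1 hh
      exact mem_zpowers_iff.2 ⟨-k, (h6 k).symm⟩
    · intro hh
      obtain ⟨k, hk⟩ := mem_zpowers_iff.1 hh
      have h7 : h = w * (w * s) ^ k * w⁻¹ := by
        rw [hk, hwi, mul_assoc, mul_assoc, mul_assoc, h1, mul_one, ← mul_assoc, h1, one_mul]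
      exact mem_zpowers_iff.2 ⟨-k, by rw [h7, h6]⟩
  have hP := hP1.to_sup_of_normal_left' hP2 hN
  obtain ⟨P, hle⟩ := hP.exists_le_sylow
  have hwP : w ∈ (P : Subgroup (U2 F)) := hle (mem_sup_right (mem_zpowers w))
  have hsP : s ∈ (P : Subgroup (U2 F)) := by
    have h7 : w * s ∈ (P : Subgroup (U2 F)) := hle (mem_sup_left (mem_zpowers _))
    have h8 := (P : Subgroup (U2 F)).mul_mem hwP h7
    rwa [← mul_assoc, h1, one_mul] at h8
  let e : (P : Subgroup (U2 F)) ≃* (D : Subgroup (U2 F)) := Sylow.equiv P D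
  refine ⟨e ⟨w, hwP⟩, e ⟨s, hsP⟩, fun h => ?_⟩
  rw [← map_mul, ← map_mul] at h
  have h7 : w * s = s * w := congrArg Subtype.val (e.injective h)
  have h8 : !![(0 : F), 1; 1, 0] * !![1, 0; 0, -1] = !![1, 0; 0, -1] * !![0, 1; 1, 0] := congrArg Subtype.val h7
  have h9 := congrFun (congrFun h8 1) 0
  simp [Matrix.mul_apply, Fin.sum_univ_two] at h9
  apply h2
  linear_combination h9

/-- the wreath product in the unitary group -/
def Phi {ι : Type} [Fintype ι] [DecidableEq ι] (D : Subgroup (unitary (Matrix (Fin 2) (Fin 2) F)))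
    (T : Subgroup (Perm ι)) : W D T →* unitary (Matrix (Fin 2 × ι) (Fin 2 × ι) F) where
  toFun w := ⟨bm (fun k => ((w.left k : unitary (Matrix (Fin 2) (Fin 2) F)) : Matrix (Fin 2) (Fin 2) F)) w.right,
    Unitary.mem_iff.2 (by
      have h := bm_star_mul (x := fun k => ((w.left k : unitary (Matrix (Fin 2) (Fin 2) F)) :
        Matrix (Fin 2) (Fin 2) F)) (fun k => (Unitary.mem_iff.1 (w.left k).1.2).1) w.right
      exact ⟨h, mul_eq_one_comm.1 h⟩)⟩
  map_one' := Subtype.ext bm_one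
  map_mul' w w' := Subtype.ext (by
    change _ = bm (fun k => ((w.left k : U2 F) : Matrix (Fin 2) (Fin 2) F)) w.right *
      bm (fun k => ((w'.left k : U2 F) : Matrix (Fin 2) (Fin 2) F)) w'.right
    rw [bm_mul]
    rfl)

theorem coe_Phi {ι : Type} [Fintype ι] [DecidableEq ι] (D : Subgroup (unitary (Matrix (Fin 2) (Fin 2) F)))
    (T : Subgroup (Perm ι)) (w : W D T) : (Phi D T w : Matrix (Fin 2 × ι) (Fin 2 × ι) F) =
    bm (fun k => ((w.left k : unitary (Matrix (Fin 2) (Fin 2) F)) : Matrix (Fin 2) (Fin 2) F)) w.right := rfl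

theorem det_Phi {ι : Type} [Fintype ι] [DecidableEq ι] (D : Subgroup (unitary (Matrix (Fin 2) (Fin 2) F)))
    (T : Subgroup (Perm ι)) (w : W D T) :
    detU (Fin 2 × ι) (Phi D T w) = detW ((detU (Fin 2)).comp D.subtype) w := by
  apply Subtype.ext
  rw [coe_detU, coe_Phi, bm_det, detW_apply]
  have h1 : ((Perm.sign (w.right : Perm ι) : ℤˣ) ^ Fintype.card (Fin 2) : ℤˣ) = 1 := by
    rw [Fintype.card_fin, Int.units_sq]
  rw [h1, SubmonoidClass.coe_finsetProd]
  simp only [Units.val_one, Int.cast_one, mul_one]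
  rfl

theorem Phi_injective {ι : Type} [Fintype ι] [DecidableEq ι] (D : Subgroup (unitary (Matrix (Fin 2) (Fin 2) F)))
    (T : Subgroup (Perm ι)) : Function.Injective (Phi D T) := by
  rw [injective_iff_map_eq_one]
  intro w hw
  have h1 : bm (fun k => ((w.left k : unitary (Matrix (Fin 2) (Fin 2) F)) : Matrix (Fin 2) (Fin 2) F)) w.right =
      (1 : F) • (1 : Matrix (Fin 2 × ι) (Fin 2 × ι) F) := by
    rw [one_smul]
    exact congrArg Subtype.val hw
  obtain ⟨h2, h3⟩ := bm_scalar one_ne_zero h1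
  apply SemidirectProduct.ext
  · funext k
    apply Subtype.ext
    apply Subtype.ext
    rw [h3 k, one_smul]
    rfl
  · exact Subtype.ext h2

end

section

variable {F : Type} [Field F] [Fintype F] [StarRing F] {q : ℕ}

theorem card_unitary (hF : Fintype.card F = q ^ 2) (hst : ∀ x : F, star x = x ^ q) :
    Nat.card (unitary F) = q + 1 := by
  rw [← card_norm_eq_one hF]
  refine Nat.card_congr (Equiv.subtypeEquivRight fun x => ?_)
  rw [Unitary.mem_iff, hst, mul_comm (x ^ q)]
  exact and_self_iff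

/-- the two unitary groups -/
def kapU (n : ℕ) (hst : ∀ x : F, star x = x ^ q) : unitary (Matrix (Fin n) (Fin n) F) ≃* GU n F q where
  toFun u := ⟨⟨u, star u, (Unitary.mem_iff.1 u.2).2, (Unitary.mem_iff.1 u.2).1⟩,
    (isom_iff hst _).2 (Unitary.mem_iff.1 u.2).1⟩
  invFun g := ⟨gm g, Unitary.mem_iff.2 ⟨(isom_iff hst _).1 g.2, mul_eq_one_comm.1 ((isom_iff hst _).1 g.2)⟩⟩
  left_inv _ := rfl
  right_inv _ := Subtype.ext (Units.ext rfl)
  map_mul' _ _ := Subtype.ext (Units.ext rfl)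

theorem isCyclic_unitary : IsCyclic (unitary F) :=
  isCyclic_of_injective_ringHom (unitary F).subtype Subtype.val_injective

omit [StarRing F] in
theorem two_ne (hF : Fintype.card F = q ^ 2) (hq : Odd q) : (2 : F) ≠ 0 := by
  intro h
  have h1 : CharP F 2 := CharTwo.of_one_ne_zero_of_two_eq_zero one_ne_zero h
  have hp : Fact (Nat.Prime 2) := ⟨Nat.prime_two⟩
  obtain ⟨n, -, hn⟩ := FiniteField.card F 2
  rw [hF] at hn
  have h2 : Odd (2 ^ (n : ℕ)) := by
    rw [← hn]
    exact hq.pow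
  rw [← Nat.not_even_iff_odd] at h2
  exact h2 ((Nat.even_pow' n.2.ne').2 (by decide))

/-- the homomorphisms on a Sylow 2-subgroup of `GU_2` -/
theorem exists_data (hF : Fintype.card F = q ^ 2) (hst : ∀ x : F, star x = x ^ q) (hq : Odd q)
    (D : Sylow 2 (U2 F)) :
    ∃ (δ : unitary F →* CC) (χ : (D : Subgroup (U2 F)) →* CC) (d e : (D : Subgroup (U2 F))),
      ((detU (Fin 2)).comp (D : Subgroup (U2 F)).subtype) d = 1 ∧
      χ d = cg ∧ δ (((detU (Fin 2)).comp (D : Subgroup (U2 F)).subtype) e) = cg ∧ χ e = 1 ∧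
      ∀ z : (D : Subgroup (U2 F)), (∃ c : F, (z.1 : Matrix (Fin 2) (Fin 2) F) = c • (1 : Matrix (Fin 2) (Fin 2) F)) →
        δ (((detU (Fin 2)).comp (D : Subgroup (U2 F)).subtype) z) = 1 ∧ χ z = 1 := by
  have hp : Fact (Nat.Prime 2) := ⟨Nat.prime_two⟩
  have hfin : Finite (unitary (Matrix (Fin 2) (Fin 2) F)) := Subtype.finite
  have hfin2 : Finite (unitary F) := Subtype.finite
  have hcyc : IsCyclic (unitary F) := isCyclic_unitary
  have hK : (powMonoidHom 2 : unitary F →* unitary F).range.index = 2 := by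
    rw [IsCyclic.index_powMonoidHom_range, card_unitary hF hst]
    obtain ⟨k, rfl⟩ := hq
    exact Nat.gcd_eq_right ⟨k + 1, by ring⟩
  let δ : unitary F →* CC := homOf _ hK
  have hδ : ∃ g : (D : Subgroup (U2 F)), δ (((detU (Fin 2)).comp (D : Subgroup (U2 F)).subtype) g) ≠ 1 := by
    by_contra hcon
    push Not at hcon
    have h1 : (D : Subgroup (U2 F)).map (detU (Fin 2)) ≤ (powMonoidHom 2 : unitary F →* unitary F).range := by
      rintro _ ⟨g, hg, rfl⟩
      exact homOf_eq_one.1 (hcon ⟨g, hg⟩)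
    have h2 := index_dvd_of_le h1
    rw [hK] at h2
    exact D.not_dvd_index (h2.trans (index_map_dvd _ detU_surjective))
  let Z : Subgroup (D : Subgroup (U2 F)) :=
    { carrier := {z | ∃ c : F, (z.1 : Matrix (Fin 2) (Fin 2) F) = c • (1 : Matrix (Fin 2) (Fin 2) F)}
      one_mem' := ⟨1, by rw [one_smul]; rfl⟩
      mul_mem' := by
        rintro a b ⟨c, hc⟩ ⟨c', hc'⟩
        refine ⟨c * c', ?_⟩
        change (a.1 : Matrix (Fin 2) (Fin 2) F) * (b.1 : Matrix (Fin 2) (Fin 2) F) = _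
        rw [hc, hc', smul_mul_smul_comm, Matrix.one_mul]
      inv_mem' := by
        rintro a ⟨c, hc⟩
        refine ⟨star c, ?_⟩
        change star (a.1 : Matrix (Fin 2) (Fin 2) F) = _
        rw [hc, star_smul, star_one] }
  have hZ : ∀ z ∈ Z, ∀ g, z * g = g * z := by
    rintro z ⟨c, hc⟩ g
    apply Subtype.ext
    apply Subtype.ext
    change (z.1 : Matrix (Fin 2) (Fin 2) F) * (g.1 : Matrix (Fin 2) (Fin 2) F) =
      (g.1 : Matrix (Fin 2) (Fin 2) F) * (z.1 : Matrix (Fin 2) (Fin 2) F)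
    rw [hc, Matrix.smul_mul, Matrix.mul_smul, Matrix.one_mul, Matrix.mul_one]
  obtain ⟨χ, d, e, h1, h2, h3, h4, h5⟩ := exists_chi D.isPGroup' (exists_noncomm (two_ne hF hq) D)
    ((detU (Fin 2)).comp (D : Subgroup (U2 F)).subtype) δ hδ Z hZ
  refine ⟨δ, χ, d, e, h1, h2, h3, h4, fun z hz => ⟨?_, h5 z hz⟩⟩
  obtain ⟨c, hc⟩ := hz
  have h0 : c * star c = 1 := by
    have h6 := (Unitary.mem_iff.1 z.1.2).2
    rw [hc, star_smul, star_one, smul_mul_smul_comm, Matrix.one_mul] at h6
    have h7 := congrFun (congrFun h6 0) 0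
    rw [Matrix.smul_apply, Matrix.one_apply_eq, smul_eq_mul, mul_one] at h7
    exact h7
  have h6 : ((detU (Fin 2)).comp (D : Subgroup (U2 F)).subtype) z =
      (⟨c, Unitary.mem_iff.2 ⟨by rw [mul_comm, h0], h0⟩⟩ : unitary F) ^ 2 := by
    apply Subtype.ext
    change (z.1 : Matrix (Fin 2) (Fin 2) F).det = c ^ 2
    rw [hc, Matrix.det_smul, Matrix.det_one, mul_one, Fintype.card_fin]
  rw [h6, map_pow, pow_two, cc_sq]

end

section ends

variable {F : Type} [Field F] [StarRing F]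

/-- reindexing of special unitary groups -/
def reSU {Ω : Type} [Fintype Ω] [DecidableEq Ω] {n : ℕ} (e : Ω ≃ Fin n) : H308.CA.SU Ω F →* H308.CA.SU (Fin n) F where
  toFun u := H308.CA.mkSU ((H308.CA.mt u).submatrix e.symm e.symm) (by
      have h1 : star ((H308.CA.mt u).submatrix e.symm e.symm) = (star (H308.CA.mt u)).submatrix e.symm e.symm := rfl
      rw [h1, Matrix.submatrix_mul_equiv, H308.CA.star_mt_mul, Matrix.submatrix_one_equiv])
    (by rw [Matrix.det_submatrix_equiv_self]; exact H308.CA.mt_det u)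
  map_one' := by
    apply H308.CA.mt_injective
    change ((1 : Matrix Ω Ω F)).submatrix e.symm e.symm = 1
    rw [Matrix.submatrix_one_equiv]
  map_mul' u v := by
    apply H308.CA.mt_injective
    change (H308.CA.mt u * H308.CA.mt v).submatrix e.symm e.symm =
      (H308.CA.mt u).submatrix e.symm e.symm * (H308.CA.mt v).submatrix e.symm e.symm
    rw [Matrix.submatrix_mul_equiv]

theorem mt_reSU {Ω : Type} [Fintype Ω] [DecidableEq Ω] {n : ℕ} (e : Ω ≃ Fin n) (u : H308.CA.SU Ω F) :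
    H308.CA.mt (reSU e u) = (H308.CA.mt u).submatrix e.symm e.symm := rfl

omit [Field F] [StarRing F] in
theorem submatrix_back {Ω : Type} {n : ℕ} (e : Ω ≃ Fin n) (M : Matrix Ω Ω F) :
    (M.submatrix e.symm e.symm).submatrix e e = M := by
  ext i j
  simp

theorem reSU_injective {Ω : Type} [Fintype Ω] [DecidableEq Ω] {n : ℕ} (e : Ω ≃ Fin n) :
    Function.Injective (reSU (F := F) e) := by
  intro u v h
  apply H308.CA.mt_injective
  have h1 := congrArg H308.CA.mt h
  rw [mt_reSU, mt_reSU] at h1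
  have h2 := congrArg (fun M => M.submatrix e e) h1
  simp only [submatrix_back] at h2
  exact h2

/-- adding a coordinate to get determinant one -/
def extSU (Ω : Type) [Fintype Ω] [DecidableEq Ω] : unitary (Matrix Ω Ω F) →* H308.CA.SU (Ω ⊕ Unit) F where
  toFun u := H308.CA.mkSU (Matrix.fromBlocks (u : Matrix Ω Ω F) 0 0 (star (detU Ω u : F) • 1)) (by
      have h2 := Unitary.mem_iff.1 u.2
      have h3 := Unitary.mem_iff.1 (detU Ω u).2
      have h1 : star (Matrix.fromBlocks (u : Matrix Ω Ω F) 0 0 (star (detU Ω u : F) • (1 : Matrix Unit Unit F))) =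
          Matrix.fromBlocks (star (u : Matrix Ω Ω F)) 0 0 ((detU Ω u : F) • (1 : Matrix Unit Unit F)) := by
        rw [Matrix.star_eq_conjTranspose, Matrix.fromBlocks_conjTranspose]
        simp [Matrix.star_eq_conjTranspose]
      rw [h1, Matrix.fromBlocks_multiply]
      simp only [Matrix.zero_mul, Matrix.mul_zero, add_zero, zero_add, h2.1, smul_mul_smul_comm, Matrix.one_mul,
        h3.2, one_smul, Matrix.fromBlocks_one])
    (by
      have h3 := Unitary.mem_iff.1 (detU Ω u).2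
      rw [Matrix.det_fromBlocks_zero₂₁, Matrix.det_smul, Matrix.det_one, Fintype.card_unit, pow_one, mul_one]
      exact h3.2)
  map_one' := by
    apply H308.CA.mt_injective
    change Matrix.fromBlocks (1 : Matrix Ω Ω F) 0 0 (star (detU Ω (1 : unitary (Matrix Ω Ω F)) : F) • 1) = 1
    rw [map_one, OneMemClass.coe_one, star_one, one_smul, Matrix.fromBlocks_one]
  map_mul' u v := by
    apply H308.CA.mt_injective
    change Matrix.fromBlocks ((u : Matrix Ω Ω F) * (v : Matrix Ω Ω F)) 0 0 (star (detU Ω (u * v) : F) • 1) =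
      Matrix.fromBlocks (u : Matrix Ω Ω F) 0 0 (star (detU Ω u : F) • (1 : Matrix Unit Unit F)) *
      Matrix.fromBlocks (v : Matrix Ω Ω F) 0 0 (star (detU Ω v : F) • (1 : Matrix Unit Unit F))
    rw [Matrix.fromBlocks_multiply]
    simp only [Matrix.zero_mul, Matrix.mul_zero, add_zero, zero_add, smul_mul_smul_comm, Matrix.one_mul, map_mul,
      Submonoid.coe_mul, star_mul']

theorem mt_extSU (Ω : Type) [Fintype Ω] [DecidableEq Ω] (u : unitary (Matrix Ω Ω F)) :
    H308.CA.mt (extSU Ω u) = Matrix.fromBlocks (u : Matrix Ω Ω F) 0 0 (star (detU Ω u : F) • 1) := rfl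

theorem coe_of_extSU {Ω : Type} [Fintype Ω] [DecidableEq Ω] {u : unitary (Matrix Ω Ω F)} {c : F}
    (h : H308.CA.mt (extSU Ω u) = c • 1) : (u : Matrix Ω Ω F) = c • 1 := by
  have h1 := congrArg Matrix.toBlocks₁₁ h
  rw [mt_extSU, Matrix.toBlocks_fromBlocks₁₁] at h1
  rw [h1]
  ext i j
  simp [Matrix.toBlocks₁₁, Matrix.one_apply]

end ends

section final

variable {F : Type} [Field F] [Fintype F] [StarRing F] {q : ℕ}

theorem d3_psu (hF : Fintype.card F = q ^ 2) (hst : ∀ x : F, star x = x ^ q) {Ω : Type} [Fintype Ω] [DecidableEq Ω]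
    {n : ℕ} (hΩ : Fintype.card Ω = n) (hn : 3 ≤ n) {X : Type} [Group X] [Finite X] (Ψ : X →* H308.CA.SU Ω F)
    (hinj : Function.Injective Ψ)
    (hcard : padicValNat 2 (Nat.card (Cfsg.SU n F q)) ≤ padicValNat 2 (Nat.card X))
    (f : X →* Multiplicative (Fin 3 → ZMod 2)) (hf : Function.Surjective f)
    (hker : ∀ (x : X) (c : F), c ≠ 0 → H308.CA.mt (Ψ x) = c • 1 → f x = 1) : D3 (Cfsg.PSU n F q) := by
  have hp : Fact (Nat.Prime 2) := ⟨Nat.prime_two⟩
  have hfin : Finite (Cfsg.SU n F q) := Subtype.finite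
  have hfin2 : Finite (Cfsg.PSU n F q) := Quotient.finite _
  let e : Ω ≃ Fin n := Fintype.equivFinOfCardEq hΩ
  let θ : X →* Cfsg.SU n F q := (kap hst).toMonoidHom.comp ((reSU e).comp Ψ)
  have hθ : ∀ x, mat (θ x) = (H308.CA.mt (Ψ x)).submatrix e.symm e.symm := fun _ => rfl
  have hθi : Function.Injective θ := (kap hst).injective.comp ((reSU_injective e).comp hinj)
  have h1 : ¬ 2 ∣ θ.range.index := by
    intro h2
    have h3 := θ.range.card_mul_index
    have h4 : Nat.card θ.range = Nat.card X := (Nat.card_congr (MonoidHom.ofInjective hθi).toEquiv).symm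
    rw [h4] at h3
    rw [← h3, padicValNat.mul Nat.card_pos.ne' index_ne_zero_of_finite] at hcard
    have h5 := one_le_padicValNat_of_dvd (p := 2) index_ne_zero_of_finite h2
    omega
  refine d3_of ((UnitAutBasic.pr n F q).comp θ) ?_ f hf ?_
  · rw [MonoidHom.range_comp]
    exact fun h => h1 (h.trans (index_map_dvd _ UnitAutBasic.pr_surjective))
  · intro x hx
    have h2 : θ x ∈ Subgroup.center (Cfsg.SU n F q) := (QuotientGroup.eq_one_iff _).1 hx
    obtain ⟨c, hc0, -, hc⟩ := Cfsg.Agent.ClassicalGeometry.PSUAutBasic.exists_scalar_of_mem_center hF hn h2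
    refine hker x c hc0 ?_
    have h3 : mat (θ x) = c • (1 : Matrix (Fin n) (Fin n) F) := by
      apply Matrix.ext_of_mulVec_single
      intro i
      have h4 := hc (Pi.single i 1)
      rw [act_def] at h4
      rw [h4, smul_mulVec, one_mulVec]
    rw [hθ] at h3
    have h4 := congrArg (fun M => M.submatrix e e) h3
    simp only [submatrix_back] at h4
    rw [h4]
    ext i j
    simp [Matrix.one_apply]

/-! ### numbers -/

theorem val_sylow {G : Type*} [Group G] [Finite G] (P : Sylow 2 G) :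
    padicValNat 2 (Nat.card (P : Subgroup G)) = padicValNat 2 (Nat.card G) := by
  have hp : Fact (Nat.Prime 2) := ⟨Nat.prime_two⟩
  rw [← (P : Subgroup G).card_mul_index, padicValNat.mul Nat.card_pos.ne' index_ne_zero_of_finite,
    padicValNat.eq_zero_of_not_dvd P.not_dvd_index, add_zero]

omit [StarRing F] in
theorem val_SU (hF : Fintype.card F = q ^ 2) (hq : Odd q) {n : ℕ} (hn : 1 ≤ n) :
    padicValNat 2 (q + 1) + padicValNat 2 (Nat.card (Cfsg.SU n F q)) =
      H751.Big.vv2 n (padicValNat 2 (q + 1)) (padicValNat 2 (q - 1)) := by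
  have hp : Fact (Nat.Prime 2) := ⟨Nat.prime_two⟩
  have hfin : Finite (Cfsg.SU n F q) := Subtype.finite
  rw [← H751.Big.val_card_GU2 hF hq n, LieClassical.GUOrder.card_GU_eq hF hn,
    padicValNat.mul (by omega) Nat.card_pos.ne']

theorem val_W (hF : Fintype.card F = q ^ 2) (hst : ∀ x : F, star x = x ^ q) (hq : Odd q) (m : ℕ)
    (D : Sylow 2 (U2 F)) (T : Sylow 2 (Perm (Fin m))) :
    padicValNat 2 (Nat.card (W (D : Subgroup (U2 F)) (T : Subgroup (Perm (Fin m))))) =
      2 * m * padicValNat 2 (q + 1) + m * padicValNat 2 (q - 1) + padicValNat 2 m.factorial := by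
  have hp : Fact (Nat.Prime 2) := ⟨Nat.prime_two⟩
  have hfin : Finite (U2 F) := Subtype.finite
  rw [SemidirectProduct.card, Nat.card_fun, padicValNat.mul (pow_ne_zero _ Nat.card_pos.ne') Nat.card_pos.ne',
    padicValNat.pow, val_sylow, val_sylow, Nat.card_perm, Nat.card_fin,
    Nat.card_congr (kapU 2 hst).toEquiv, H751.Big.val_card_GU2 hF hq 2]
  unfold H751.Big.vv2
  norm_num
  ring

theorem main_psu (hF : Fintype.card F = q ^ 2) (hst : ∀ x : F, star x = x ^ q) (hq : Odd q) {n : ℕ} (hn : 4 ≤ n) :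
    D3 (Cfsg.PSU n F q) := by
  have hp : Fact (Nat.Prime 2) := ⟨Nat.prime_two⟩
  have hfin : Finite (U2 F) := Subtype.finite
  obtain ⟨D⟩ : Nonempty (Sylow 2 (U2 F)) := inferInstance
  obtain ⟨δ, χ, d, e, hd1, hd, he, he1, hsc⟩ := exists_data hF hst hq D
  -- the number of blocks
  obtain ⟨m, hm2, hm⟩ : ∃ m, 2 ≤ m ∧ (n = 2 * m ∨ n = 2 * m + 1) := ⟨n / 2, by omega, by omega⟩
  obtain ⟨T⟩ : Nonempty (Sylow 2 (Perm (Fin m))) := inferInstance
  have hfinW : Finite (W (D : Subgroup (U2 F)) (T : Subgroup (Perm (Fin m)))) :=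
    Finite.of_equiv _ SemidirectProduct.equivProd.symm
  have hnt : Nontrivial (Fin m) := Fin.nontrivial_iff_two_le.2 hm2
  have hne : Nonempty (Fin m) := ⟨⟨0, by omega⟩⟩
  have hW := val_W hF hst hq m D T
  have hSU := val_SU hF hq (F := F) (n := n) (by omega)
  have hscal : ∀ (w : W (D : Subgroup (U2 F)) (T : Subgroup (Perm (Fin m)))) (c : F), c ≠ 0 →
      (Phi (D : Subgroup (U2 F)) (T : Subgroup (Perm (Fin m))) w : Matrix (Fin 2 × Fin m) (Fin 2 × Fin m) F) = c • 1 →
      w.right = 1 ∧ ∀ i, δ (((detU (Fin 2)).comp (D : Subgroup (U2 F)).subtype) (w.left i)) = 1 ∧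
        χ (w.left i) = 1 := by
    intro w c hc h
    rw [coe_Phi] at h
    obtain ⟨h1, h2⟩ := bm_scalar hc h
    exact ⟨Subtype.ext h1, fun i => hsc _ ⟨c, h2 i⟩⟩
  rcases hm with rfl | rfl
  · -- even dimension
    obtain ⟨F1, hF1, hF2⟩ := rk_ker (ι := Fin m) T.isPGroup' ((detU (Fin 2)).comp (D : Subgroup (U2 F)).subtype) δ χ
      hd1 hd he1 he
    have hmem : ∀ w : (detW (T := (T : Subgroup (Perm (Fin m))))
        ((detU (Fin 2)).comp (D : Subgroup (U2 F)).subtype)).ker,
        Phi (D : Subgroup (U2 F)) (T : Subgroup (Perm (Fin m))) w.1 ∈ H308.CA.SU (Fin 2 × Fin m) F := by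
      intro w
      rw [H308.CA.mem_SU, ← coe_detU, det_Phi, (MonoidHom.mem_ker.1 w.2 :), OneMemClass.coe_one]
    let Ψ : (detW (T := (T : Subgroup (Perm (Fin m)))) ((detU (Fin 2)).comp (D : Subgroup (U2 F)).subtype)).ker →*
        H308.CA.SU (Fin 2 × Fin m) F :=
      ((Phi (D : Subgroup (U2 F)) (T : Subgroup (Perm (Fin m)))).comp (Subgroup.subtype _)).codRestrict _ hmem
    have hΨ : ∀ w, H308.CA.mt (Ψ w) =
        (Phi (D : Subgroup (U2 F)) (T : Subgroup (Perm (Fin m))) w.1 : Matrix (Fin 2 × Fin m) (Fin 2 × Fin m) F) :=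
      fun _ => rfl
    refine d3_psu hF hst (Ω := Fin 2 × Fin m) (by simp) (by omega) Ψ ?_ ?_ F1 hF1 ?_
    · intro w w' h
      apply Subtype.ext
      apply Phi_injective
      apply Subtype.ext
      rw [← hΨ, ← hΨ, h]
    · have h1 := card_mul_index (detW (T := (T : Subgroup (Perm (Fin m))))
        ((detU (Fin 2)).comp (D : Subgroup (U2 F)).subtype)).ker
      rw [index_ker] at h1
      have h2 : Nat.card (detW (T := (T : Subgroup (Perm (Fin m))))
          ((detU (Fin 2)).comp (D : Subgroup (U2 F)).subtype)).range ∣ q + 1 := by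
        rw [← card_unitary hF hst]
        exact card_subgroup_dvd_card _
      have hfin3 : Finite (unitary F) := Subtype.finite
      have h3 := padicValNat_dvd_iff_le (p := 2) (a := q + 1) (by omega) |>.1 ((pow_padicValNat_dvd).trans h2)
      rw [← h1, padicValNat.mul Nat.card_pos.ne' Nat.card_pos.ne'] at hW
      unfold H751.Big.vv2 at hSU
      have h4 : 2 * m / 2 = m := by omega
      rw [h4] at hSU
      omega
    · intro w c hc h
      obtain ⟨h1, h2⟩ := hscal w.1 c hc h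
      exact hF2 w h1 h2
  · -- odd dimension
    have hT1 : (T : Subgroup (Perm (Fin m))) ≠ ⊥ := by
      intro h
      have h1 := val_sylow T
      rw [h, card_bot, padicValNat_one_right, Nat.card_perm, Nat.card_fin] at h1
      have h2 : 2 ∣ m.factorial := Nat.dvd_factorial (by norm_num) hm2
      have h3 := one_le_padicValNat_of_dvd (p := 2) (Nat.factorial_ne_zero m) h2
      omega
    obtain ⟨F1, hF1, hF2⟩ := rk_full (ι := Fin m) T.isPGroup' hT1
      (δ.comp ((detU (Fin 2)).comp (D : Subgroup (U2 F)).subtype)) χ (d := d) (e := e)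
      (by rw [MonoidHom.comp_apply, hd1, map_one]) hd he1 he
    refine d3_psu hF hst (Ω := (Fin 2 × Fin m) ⊕ Unit) (by simp) (by omega)
      ((extSU (Fin 2 × Fin m)).comp (Phi (D : Subgroup (U2 F)) (T : Subgroup (Perm (Fin m))))) ?_ ?_ F1 hF1 ?_
    · intro w w' h
      apply Phi_injective
      apply Subtype.ext
      have h1 := congrArg (fun u => Matrix.toBlocks₁₁ (H308.CA.mt u)) h
      simp only [MonoidHom.comp_apply, mt_extSU, Matrix.toBlocks_fromBlocks₁₁] at h1
      exact h1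
    · rw [hW]
      unfold H751.Big.vv2 at hSU
      have h4 : (2 * m + 1) / 2 = m := by omega
      rw [h4] at hSU
      have h5 : (2 * m + 1) * padicValNat 2 (q + 1) = 2 * m * padicValNat 2 (q + 1) + padicValNat 2 (q + 1) := by ring
      omega
    · intro w c hc h
      obtain ⟨h1, h2⟩ := hscal w c hc (coe_of_extSU h)
      exact hF2 w h1 h2

end final

/-- **The Sylow 2-subgroups of `PSU_n(q)`, `q` odd, `n ≥ 4`, need at least three generators.** -/
theorem d3_PSU {F : Type} [Field F] [Fintype F] {n q : ℕ} (hF : Fintype.card F = q ^ 2) (hq : Odd q) (hn : 4 ≤ n) :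
    D3 (Cfsg.PSU n F q) := by
  let _ := sr hF
  exact main_psu hF (fun _ => rfl) hq hn

end Cfsg.Agent.H466.K547
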